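import Cfsg.Agent.H93.CJ.Stab
import Cfsg.Agent.ClassicalGeometry.OrthSemiForms
import Cfsg.Agent.ClassicalGeometry.OrthAut1
import Cfsg.Agent.H122.OrthIso

/-!
# The projection from `E Q` to the simple group of a similar explicit form (for S4792)

* `exists_pi` : `π : E Q →* S`, `S ≃* POmega F R`, surjective with kernel the scalars in `E Q`;
* `comm_scalar` : `π c` and `π x` commute only if `c x = ζ x c` for a scalar `ζ`;
* `mulL` : the multiplication by an element of an extension field.
-/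

set_option autoImplicit false

namespace Cfsg.Agent.H93.CJ

open Module QuadraticMap Cfsg
open Cfsg.Agent.LieClassical.OrthCore Cfsg.Agent.LieClassical.OrthTrans
open Cfsg.Agent.H122.OrthWt Cfsg.Agent.H122.OrthIso

variable {F V : Type*} [Field F] [AddCommGroup V] [Module F V]

theorem O_smul (R : QuadraticForm F V) {c : F} (hc : c ≠ 0) : O (c • R) = O R := by
  ext g
  rw [mem_O, mem_O]
  refine forall_congr' fun v => ?_
  change c * R (g v) = c * R v ↔ _
  exact mul_right_inj' hc

theorem nondeg_smul {R : QuadraticForm F V} (hR : Nondeg R) {c : F} (hc : c ≠ 0) : Nondeg (c • R) := by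
  intro x hx
  apply hR
  intro y
  have h := hx y
  have h1 : polar (c • R) x y = c * polar R x y := by
    simp only [polar]
    change c * R (x + y) - c * R x - c * R y = _
    ring
  rw [h1] at h
  exact (mul_eq_zero.1 h).resolve_left hc

theorem exists_pi {ι : Type} [Fintype ι] [DecidableEq ι] {R : QuadraticForm F (ι → F)} (hR : Good R)
    {Q : QuadraticForm F V} {c : F} (hcR : Good (c • R)) (e : (ι → F) ≃ₗ[F] V) (hc : c ≠ 0)
    (he : ∀ u, Q (e u) = c * R u) (hQ : Good Q) {S : Type*} [Group S] (i : POmega F ⇑R ≃* S) :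
    ∃ π : E Q →* S, Function.Surjective π ∧
      ∀ z : E Q, z ∈ π.ker ↔ ∃ a : F, ∀ v, (z : V ≃ₗ[F] V) v = a • v := by
  have h1 : E (c • R) = E R := by
    rw [← hcR.commutator_eq_E, ← hR.commutator_eq_E, O_smul R hc]
  have h2 : IsoQ (c • R) Q := ⟨e, fun u => by rw [he]; rfl⟩
  obtain ⟨f⟩ := h2.equiv
  let f' : E Q ≃* E R := f.symm.trans (MulEquiv.subgroupCongr h1)
  let g : S ≃* E R ⧸ Subgroup.center (E R) :=
    i.symm.trans (ClassicalGeometry.OrthSemiForms.pomegaEquiv hR)
  refine ⟨g.symm.toMonoidHom.comp ((QuotientGroup.mk' (Subgroup.center (E R))).comp f'.toMonoidHom), ?_, ?_⟩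
  · exact g.symm.surjective.comp ((QuotientGroup.mk'_surjective _).comp f'.surjective)
  · intro z
    rw [MonoidHom.mem_ker]
    have h3 : (g.symm.toMonoidHom.comp ((QuotientGroup.mk' (Subgroup.center (E R))).comp f'.toMonoidHom)) z = 1 ↔
        f' z ∈ Subgroup.center (E R) := by
      show g.symm (QuotientGroup.mk (f' z)) = 1 ↔ _
      rw [map_eq_one_iff g.symm g.symm.injective, QuotientGroup.eq_one_iff]
    have h4 : f' z ∈ Subgroup.center (E R) ↔ z ∈ Subgroup.center (E Q) := by
      rw [Subgroup.mem_center_iff, Subgroup.mem_center_iff]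
      constructor
      · intro h y
        apply f'.injective
        rw [map_mul, map_mul]
        exact h _
      · intro h y
        obtain ⟨y, rfl⟩ := f'.surjective y
        rw [← map_mul, ← map_mul, h]
    rw [h3, h4]
    constructor
    · exact fun h => ClassicalGeometry.OrthAut1.center_scalar hQ h
    · rintro ⟨a, ha⟩
      exact ClassicalGeometry.OrthAut1.mem_center_of_scalar ha

theorem comm_scalar {Q : QuadraticForm F V} {T : Type*} [Group T] {π : E Q →* T}
    (hk : ∀ z : E Q, z ∈ π.ker ↔ ∃ a : F, ∀ v, (z : V ≃ₗ[F] V) v = a • v) {c x : E Q}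
    (h : π c * π x = π x * π c) :
    ∃ a : F, ∀ v, (c : V ≃ₗ[F] V) ((x : V ≃ₗ[F] V) v) = a • (x : V ≃ₗ[F] V) ((c : V ≃ₗ[F] V) v) := by
  have h1 : c * x * (x * c)⁻¹ ∈ π.ker := by
    rw [MonoidHom.mem_ker, map_mul, map_mul, map_inv, map_mul, h, mul_inv_cancel]
  obtain ⟨a, ha⟩ := (hk _).1 h1
  refine ⟨a, fun v => ?_⟩
  have h2 := ha ((x : V ≃ₗ[F] V) ((c : V ≃ₗ[F] V) v))
  have h3 : ((c * x * (x * c)⁻¹ : E Q) : V ≃ₗ[F] V) ((x : V ≃ₗ[F] V) ((c : V ≃ₗ[F] V) v)) =
      (c : V ≃ₗ[F] V) ((x : V ≃ₗ[F] V) v) := by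
    have : c * x * (x * c)⁻¹ * (x * c) = c * x := by rw [inv_mul_cancel_right]
    exact LinearEquiv.congr_fun (congrArg Subtype.val this) v
  rw [h3] at h2
  exact h2

/-- the multiplication by a nonzero element of an extension field -/
def mulL (F : Type*) {L : Type*} [Field F] [Field L] [Algebra F L] (u : L) (hu : u ≠ 0) : L ≃ₗ[F] L where
  toFun v := u * v
  invFun v := u⁻¹ * v
  map_add' := mul_add u
  map_smul' a v := by
    rw [RingHom.id_apply, mul_smul_comm]
  left_inv v := by
    show u⁻¹ * (u * v) = v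
    rw [← mul_assoc, inv_mul_cancel₀ hu, one_mul]
  right_inv v := by
    show u * (u⁻¹ * v) = v
    rw [← mul_assoc, mul_inv_cancel₀ hu, one_mul]

theorem mulL_apply {F L : Type*} [Field F] [Field L] [Algebra F L] {u : L} (hu : u ≠ 0) (v : L) :
    mulL F u hu v = u * v := rfl

end Cfsg.Agent.H93.CJ
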