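import Cfsg.Agent.H93.PReg.OrthTori

/-!
# The torus of order `q ^ k + 1` on a space of dimension `2k` of minus type (for S4792)

`exists_torus` : a field `L` of degree `2k` over `F`, a form `Q` on `L` and `u ∈ L` with `Q (u v) = Q v` such that
the `F`-linear maps commuting with the multiplication by `u ^ 2` are the multiplications.
-/

set_option autoImplicit false

namespace Cfsg.Agent.H93.CJ

open QuadraticMap Cfsg.Agent.LieClassical.OrthCore Cfsg.Agent.LieClassical.OrthForms
open Cfsg.Agent.H93.PReg Cfsg.Agent.H93.PReg.Orth Cfsg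
open Cfsg.Agent.H182.Sign Cfsg.Agent.H182.Orth

/-- proper divisors of `2k` -/
theorem arith {q k j : ℕ} (hq : 2 ≤ q) (hk : 2 ≤ k) (hj : j ∣ 2 * k) (h : q ^ k + 1 ∣ 2 * (q ^ j - 1)) : j = 2 * k := by
  by_contra hne
  obtain ⟨c, hc⟩ := hj
  have hj0 : 0 < j := by
    rcases Nat.eq_zero_or_pos j with rfl | h0
    · omega
    · exact h0
  have hc2 : 2 ≤ c := by
    rcases c with _ | _ | c
    · omega
    · exact absurd (by omega : j = 2 * k) hne
    · omega
  have hjk : j ≤ k := by nlinarith
  have h1 : q ^ j ≤ q ^ k := Nat.pow_le_pow_right (by omega) hjk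
  have h2 : 2 ≤ q ^ j := hq.trans (Nat.le_self_pow hj0.ne' q)
  obtain ⟨d, hd⟩ := h
  have hd1 : d = 1 := by
    have : d < 2 := by
      by_contra h3
      have : (q ^ k + 1) * 2 ≤ (q ^ k + 1) * d := Nat.mul_le_mul_left _ (by omega)
      omega
    rcases d with _ | _ | d
    · omega
    · rfl
    · omega
  rw [hd1, mul_one] at hd
  have h3 : q ^ k + 3 = 2 * q ^ j := by omega
  have h4 : q ^ j ∣ 3 := by
    have h5 : q ^ j ∣ q ^ k := pow_dvd_pow q hjk
    exact (Nat.dvd_add_right h5).1 (h3 ▸ Dvd.intro_left 2 rfl)
  have h5 : q ^ j = 3 := by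
    rcases (Nat.dvd_prime Nat.prime_three).1 h4 with h | h
    · omega
    · exact h
  have h6 : q ^ k = 3 := by omega
  have h7 : q ^ 2 ≤ q ^ k := Nat.pow_le_pow_right (by omega) hk
  nlinarith

theorem exists_torus (F : Type) [Field F] [Fintype F] {k : ℕ} (hk : 2 ≤ k) :
    ∃ (L : Type) (_ : Field L) (_ : Algebra F L) (_ : Finite L) (Q : QuadraticForm F L) (u : L),
      Sg Q k (-1) ∧ u ≠ 0 ∧ (∀ v, Q (u * v) = Q v) ∧
      (∀ φ : L →ₗ[F] L, (∀ v, φ (u * u * v) = u * u * φ v) → ∃ s : L, ∀ v, φ v = s * v) ∧
      (∀ a : F, u * u ≠ algebraMap F L a) ∧ ∀ a : F, ∃ v : L, v ≠ 0 ∧ Q v = a := by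
  obtain ⟨K, _, _, b, hKf, -, hK, -⟩ := Singer.exists_ext F k (by omega)
  have := Fintype.ofFinite K
  obtain ⟨L, _, _, b', hLf, g, hL, hg⟩ := Singer.exists_ext K 2 two_ne_zero
  let _ : Algebra F L := ((algebraMap K L).comp (algebraMap F K)).toAlgebra
  have : IsScalarTower F K L := IsScalarTower.of_algebraMap_eq fun _ => rfl
  have hKc : Fintype.card K = Fintype.card F ^ k := by rw [← hK, Nat.card_eq_fintype_card]
  have hq : 2 ≤ Fintype.card K := Fintype.one_lt_card
  have hqF : 2 ≤ Fintype.card F := Fintype.one_lt_card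
  have hrk : Module.finrank F K = k := by rw [Module.finrank_eq_card_basis b, Fintype.card_fin]
  have hs := (sg_normQ b').res (F := F)
  rw [hrk, mul_one] at hs
  have hfK : FiniteDimensional F K := Module.Finite.of_basis b
  have hfL : FiniteDimensional K L := Module.Finite.of_basis b'
  have hfFL : FiniteDimensional F L := FiniteDimensional.trans F K L
  have hnorm : Algebra.norm K ((g : L) ^ (Fintype.card K - 1)) = 1 := by
    rw [map_pow]
    apply FiniteField.pow_card_sub_one_eq_one
    rw [Ne, Algebra.norm_eq_zero_iff_of_basis b']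
    exact g.ne_zero
  have ho : orderOf ((g : L) ^ (Fintype.card K - 1)) = Fintype.card F ^ k + 1 := by
    rw [← Units.val_pow_eq_pow_val, orderOf_units, orderOf_pow_of_dvd (by omega), hg, ← hKc]
    · have h1 : Fintype.card K ^ 2 - 1 = (Fintype.card K + 1) * (Fintype.card K - 1) := by
        have := Nat.sq_sub_sq (Fintype.card K) 1
        simpa using this
      rw [h1, Nat.mul_div_cancel _ (by omega)]
    · rw [hg]
      simpa using Nat.sub_dvd_pow_sub_pow (Fintype.card K) 1 2
  set u : L := (g : L) ^ (Fintype.card K - 1) with hu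
  have hu0 : u ≠ 0 := pow_ne_zero _ g.ne_zero
  have hadj : IntermediateField.adjoin F ({u * u} : Set L) = ⊤ := by
    set E := IntermediateField.adjoin F ({u * u} : Set L) with hE
    have hmem : u * u ∈ E := IntermediateField.mem_adjoin_simple_self F _
    have hdvd : Module.finrank F E ∣ 2 * k := by
      have h1 := Module.finrank_mul_finrank F E L
      have h2 : Module.finrank F L = 2 * k := hs.dim
      exact ⟨_, by rw [h1, h2]⟩
    have hcE : Nat.card E = Fintype.card F ^ Module.finrank F E := by
      rw [← Nat.card_eq_fintype_card]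
      exact Module.natCard_eq_pow_finrank (K := F) (V := E)
    have hpow : (u * u) ^ (Nat.card E - 1) = 1 := by
      have : Fintype E := Fintype.ofFinite E
      have h1 := FiniteField.pow_card_sub_one_eq_one (⟨u * u, hmem⟩ : E) (by
        intro h0
        exact mul_ne_zero hu0 hu0 (congrArg Subtype.val h0))
      rw [Nat.card_eq_fintype_card]
      exact congrArg Subtype.val h1
    have h3 : Fintype.card F ^ k + 1 ∣ 2 * (Fintype.card F ^ Module.finrank F E - 1) := by
      rw [← ho, ← hcE]
      apply orderOf_dvd_of_pow_eq_one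
      rw [pow_mul, pow_two]
      exact hpow
    have h4 := arith hqF hk hdvd h3
    exact IntermediateField.eq_of_le_of_finrank_eq le_top (by rw [IntermediateField.finrank_top', h4, hs.dim])
  refine ⟨L, inferInstance, inferInstance, inferInstance, traceForm F (normQ b'), u, hs, hu0, ?_, ?_, ?_, ?_⟩
  · intro v
    rw [traceForm_apply, traceForm_apply]
    congr 1
    rw [normQ_apply, normQ_apply, map_mul, hnorm, one_mul]
  · intro φ hφ
    refine ⟨φ 1, fun v => ?_⟩
    let S : Subalgebra F L :=
      { carrier := {a | ∀ v, φ (a * v) = a * φ v}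
        mul_mem' := by
          intro a c ha hc v
          rw [mul_assoc, ha, hc, mul_assoc]
        add_mem' := by
          intro a c ha hc v
          rw [add_mul, map_add, ha, hc, add_mul]
        algebraMap_mem' := by
          intro r v
          rw [← Algebra.smul_def, map_smul, Algebra.smul_def] }
    have h1 : Algebra.adjoin F ({u * u} : Set L) ≤ S := by
      apply Algebra.adjoin_le
      intro a ha
      rw [Set.mem_singleton_iff.1 ha]
      exact hφ
    have h2 : Algebra.adjoin F ({u * u} : Set L) = ⊤ := by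
      rw [← IntermediateField.adjoin_simple_toSubalgebra_of_isAlgebraic (IsAlgebraic.of_finite F (u * u)), hadj]
      rfl
    have h3 : v ∈ S := h1 (h2 ▸ Algebra.mem_top)
    have h4 := h3 1
    rw [mul_one] at h4
    rw [h4, mul_comm]
  · intro a ha
    have h1 : IntermediateField.adjoin F ({u * u} : Set L) = ⊥ := by
      rw [IntermediateField.adjoin_simple_eq_bot_iff, IntermediateField.mem_bot]
      exact ⟨a, ha.symm⟩
    have h2 := congrArg (fun E : IntermediateField F L => Module.finrank F E) (hadj.symm.trans h1)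
    simp only [IntermediateField.finrank_top', IntermediateField.finrank_bot] at h2
    have h3 : Module.finrank F L = 2 * k := hs.dim
    omega
  · intro a
    obtain ⟨x, hx, hxa⟩ : ∃ x : K, x ≠ 0 ∧ Algebra.trace F K x = a := by
      by_cases ha : a = 0
      · subst ha
        have h1 : LinearMap.ker (Algebra.trace F K) ≠ ⊥ := by
          intro h0
          have h2 := LinearMap.finrank_range_add_finrank_ker (Algebra.trace F K)
          rw [h0, finrank_bot, add_zero, hrk] at h2
          have h3 := Submodule.finrank_le (LinearMap.range (Algebra.trace F K))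
          rw [Module.finrank_self] at h3
          omega
        obtain ⟨x, hx, hx0⟩ := (Submodule.ne_bot_iff _).1 h1
        exact ⟨x, hx0, hx⟩
      · obtain ⟨x, hx⟩ := Algebra.trace_surjective F K a
        refine ⟨x, ?_, hx⟩
        rintro rfl
        rw [map_zero] at hx
        exact ha hx.symm
    obtain ⟨v, hv⟩ := FiniteField.norm_surjective K L x
    refine ⟨v, ?_, ?_⟩
    · rintro rfl
      rw [Algebra.norm_zero] at hv
      exact hx hv.symm
    · rw [traceForm_apply, normQ_apply, hv, hxa]

end Cfsg.Agent.H93.CJ
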