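import Cfsg.Agent.H430.Conj.Defs
import Cfsg.Agent.H122.OrthRep

/-!
# The conjugation character of the orthogonal groups: the criterion

* `hasFix_of_vector` : a nonzero vector fixed by `C`;
* `row_of_quot` : the criterion for a quotient `π : G →* T`;
* `row_orth` : `G = E (HQ Q)`, weights of the Siegel group of the first standard singular vector.
-/

set_option autoImplicit false

namespace Cfsg.Agent.H93.CJ

open Cfsg Module QuadraticMap Cfsg.Agent.H430.Conj Cfsg.Agent.Characters.Core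
open Cfsg.Agent.LieClassical.OrthCore Cfsg.Agent.LieClassical.OrthTrans
open Cfsg.Agent.H121.Wt Cfsg.Agent.H121.Chr Cfsg.Agent.H122.OrthWt Cfsg.Agent.H122.OrthRep

universe u v

/-- A nonzero vector fixed by `C`. -/
theorem hasFix_of_vector {G : Type u} [Group G] [Finite G] {V : Type*} [AddCommGroup V] [Module ℂ V]
    [FiniteDimensional ℂ V] (ρ : Representation ℂ G V) (C : Subgroup G) (v : V) (hv : v ≠ 0)
    (h : ∀ c ∈ C, ρ c v = v) : HasFix C ρ.character := by
  have : Fintype C := Fintype.ofFinite C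
  have hne : (Nat.card C : ℂ) ≠ 0 := Nat.cast_ne_zero.2 Nat.card_pos.ne'
  let _ : Invertible (Nat.card C : ℂ) := invertibleOfNonzero hne
  have h1 := Representation.card_inv_mul_sum_char_eq_finrank (ρ.comp C.subtype : Representation ℂ C V)
  have hmem : v ∈ Representation.invariants (ρ.comp C.subtype : Representation ℂ C V) := by
    rw [Representation.mem_invariants]
    exact fun c => h c.1 c.2
  have h2 : finrank ℂ (Representation.invariants (ρ.comp C.subtype : Representation ℂ C V)) ≠ 0 := by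
    intro h0
    rw [Submodule.finrank_eq_zero] at h0
    rw [h0, Submodule.mem_bot] at hmem
    exact hv hmem
  unfold HasFix
  rw [finsum_eq_sum_of_fintype]
  intro h0
  apply h2
  have h3 : ∑ g : C, Representation.character (ρ.comp C.subtype : Representation ℂ C V) g = 0 := h0
  rw [h3, mul_zero] at h1
  exact_mod_cast h1.symm

/-- The criterion for a quotient. -/
theorem row_of_quot {G : Type u} {T : Type v} [Group G] [Finite G] [Group T] (π : G →* T)
    (hπ : Function.Surjective π)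
    (h : ∀ (n : ℕ) (ρ : Representation ℂ G (Fin n → ℂ)), (∀ g ∈ π.ker, ρ g = 1) → (∃ g, ρ g ≠ 1) →
      ∃ (x : G) (v : Fin n → ℂ), ∑ᶠ g : {g : G // π g * π x = π x * π g}, ρ (g : G) v ≠ 0) : Row T := by
  classical
  have hfT : Finite T := Finite.of_surjective π hπ
  intro χ hχ
  obtain ⟨n, ρ, hirr, rfl⟩ := hχ
  by_cases htriv : ∃ t, ρ t ≠ 1
  · obtain ⟨t, ht⟩ := htriv
    obtain ⟨g, rfl⟩ := hπ t
    obtain ⟨x, v, hv⟩ := h n (ρ.comp π) (fun g hg => by
      show ρ (π g) = 1
      rw [MonoidHom.mem_ker.1 hg, map_one]) ⟨g, ht⟩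
    refine ⟨π x, hasFix_of_vector ρ _ _ hv ?_⟩
    intro c hc
    obtain ⟨g0, rfl⟩ := hπ c
    rw [Subgroup.mem_centralizer_singleton_iff] at hc
    have : Fintype {g : G // π g * π x = π x * π g} := Fintype.ofFinite _
    rw [finsum_eq_sum_of_fintype, map_sum]
    have hmul : ∀ a b : G, π a * π x = π x * π a → π b * π x = π x * π b →
        π (a * b) * π x = π x * π (a * b) := by
      intro a b ha hb
      rw [map_mul, mul_assoc, hb, ← mul_assoc, ha, mul_assoc]
    have hinv : ∀ a : G, π a * π x = π x * π a → π a⁻¹ * π x = π x * π a⁻¹ := by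
      intro a ha
      rw [map_inv, inv_mul_eq_iff_eq_mul, ← mul_assoc, ha, mul_assoc, mul_inv_cancel, mul_one]
    have hc' : π g0 * π x = π x * π g0 := by
      exact hc
    let e : {g : G // π g * π x = π x * π g} ≃ {g : G // π g * π x = π x * π g} :=
      { toFun := fun g => ⟨g0 * g.1, hmul _ _ hc' g.2⟩
        invFun := fun g => ⟨g0⁻¹ * g.1, hmul _ _ (hinv _ hc') g.2⟩
        left_inv := fun g => Subtype.ext (by simp)
        right_inv := fun g => Subtype.ext (by simp) }
    refine Fintype.sum_equiv e _ _ fun g => ?_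
    show ρ (π g0) (ρ (π g.1) v) = ρ (π (g0 * g.1)) v
    rw [map_mul, map_mul]
    rfl
  · push Not at htriv
    obtain ⟨k, hk, hk1⟩ := isIrr_apply_one ⟨n, ρ, hirr, rfl⟩
    have hn : n ≠ 0 := by
      rintro rfl
      rw [Representation.char_one, Module.finrank_fin_fun] at hk1
      have : k = 0 := by exact_mod_cast hk1.symm
      omega
    have : NeZero n := ⟨hn⟩
    refine ⟨1, hasFix_of_vector ρ _ (fun _ => 1) ?_ fun c _ => by rw [htriv c]; rfl⟩
    intro h0
    have := congrFun h0 0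
    exact one_ne_zero this

section orth

variable {F W : Type*} [Field F] [Finite F] [AddCommGroup W] [Module F W] [Finite W]

theorem finite_E (Q : QuadraticForm F W) : Finite (E (HQ Q)) := by
  have : Finite ((W × F × F) ≃ₗ[F] (W × F × F)) :=
    Finite.of_injective (fun g : (W × F × F) ≃ₗ[F] (W × F × F) => (g : (W × F × F) → (W × F × F)))
      DFunLike.coe_injective
  infer_instance

/-- **The criterion for orthogonal groups.** -/
theorem row_orth {Q : QuadraticForm F W} (hQ : Nondeg Q) (hG : Good (HQ Q)) (hT : TransN Q) {T : Type v} [Group T]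
    (π : E (HQ Q) →* T) (hπ : Function.Surjective π)
    (h : ∀ l0 : W, l0 ≠ 0 → ∃ (x : E (HQ Q)) (l : W), l ≠ 0 ∧ Q l = Q l0 ∧
      ∀ c : E (HQ Q), π c * π x = π x * π c → ∃ a : F, a ≠ 0 ∧ ∃ s ∈ O Q,
        (∀ w : W, c * sE Q w = sE Q (a • s w) * c) ∧
        (a⁻¹ • s l = l → ∃ z ∈ π.ker, ∃ y : W, polar Q l y = 0 ∧ c = z * sE Q y)) : Row T := by
  classical
  have hfin := finite_E Q
  have hFW : Fintype W := Fintype.ofFinite W
  refine row_of_quot π hπ ?_
  intro n ρ hker hne
  obtain ⟨ψ, hψ⟩ : ∃ ψ : AddChar F ℂ, ψ ≠ 1 := by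
    have : Fintype F := Fintype.ofFinite F
    have h1 := card_addChar F
    have h2 : 1 < Fintype.card (AddChar F ℂ) := by
      rw [h1]
      exact Fintype.one_lt_card
    exact Fintype.exists_ne_of_one_lt_card h2 1
  obtain ⟨w, hw⟩ := exists_sE_ne_one Q ρ hG hne
  obtain ⟨χ, hχ, hχw⟩ := exists_wt (isAct Q ρ) hw
  obtain ⟨l0, rfl⟩ := (chEquiv Q hQ hψ).surjective χ
  rw [chEquiv_apply] at hχ hχw
  have hl0 : l0 ≠ 0 := by
    rintro rfl
    apply hχw
    rw [ch_zero]
    rfl
  obtain ⟨v0, hv0, hv0ne⟩ := (Submodule.ne_bot_iff _).1 hχ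
  obtain ⟨x, l, hl, hQl, hc⟩ := h l0 hl0
  obtain ⟨g, hg, hgl⟩ := hT l0 l hl0 hl hQl.symm
  set v := ρ (extE Q ⟨g, hg⟩) v0 with hvdef
  have hv : v ∈ ws Q ρ ψ l := by
    have := extE_map_ws Q ρ ψ ⟨g, hg⟩ l0 hv0
    rwa [show (⟨g, hg⟩ : E Q).1 l0 = l from hgl] at this
  have hvne : v ≠ 0 := by
    intro h0
    apply hv0ne
    have h1 : ρ (extE Q ⟨g, hg⟩)⁻¹ v = v0 := by
      rw [hvdef, ← Module.End.mul_apply, ← map_mul, inv_mul_cancel, map_one]
      rfl
    rw [← h1, h0, map_zero]
  refine ⟨x, v, ?_⟩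
  have : Fintype {g : E (HQ Q) // π g * π x = π x * π g} := Fintype.ofFinite _
  rw [finsum_eq_sum_of_fintype]
  intro hsum
  have hpr := congrArg (pr (RR Q ρ) (ch Q ψ l)) hsum
  rw [map_sum, map_zero] at hpr
  -- every summand is `v` or `0`
  have hterm : ∀ c : {g : E (HQ Q) // π g * π x = π x * π g},
      pr (RR Q ρ) (ch Q ψ l) (ρ (c : E (HQ Q)) v) = v ∨ pr (RR Q ρ) (ch Q ψ l) (ρ (c : E (HQ Q)) v) = 0 := by
    intro c
    obtain ⟨a, ha, s, hs, hconj, hstab⟩ := hc c.1 c.2
    have hmem : ρ c.1 v ∈ ws Q ρ ψ (a⁻¹ • s l) := by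
      refine map_wt ρ (x := sE Q) (g := c.1) (f := fun w => a • s w) hconj ?_ ?_ hv
      · intro w
        refine ⟨s.symm (a⁻¹ • w), ?_⟩
        show a • s (s.symm (a⁻¹ • w)) = w
        rw [LinearEquiv.apply_symm_apply, smul_smul, mul_inv_cancel₀ ha, one_smul]
      · intro w
        rw [ch_apply, ch_apply, polar_smul_left, polar_smul_right, polar_map hs, smul_eq_mul, smul_eq_mul,
          ← mul_assoc, inv_mul_cancel₀ ha, one_mul]
    by_cases hfix : a⁻¹ • s l = l
    · left
      obtain ⟨z, hz, y, hy, hcz⟩ := hstab hfix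
      have h1 : ρ c.1 v = v := by
        rw [hcz, map_mul, hker z hz, one_mul]
        have := mem_wt.1 hv y
        rw [this, ch_apply, hy, AddChar.map_zero_eq_one, one_smul]
      rw [h1]
      exact pr_of_mem hv
    · right
      refine pr_of_mem_ne ?_ hmem
      intro heq
      exact hfix (ch_injective Q hQ hψ heq).symm
  have hone : pr (RR Q ρ) (ch Q ψ l) (ρ (1 : E (HQ Q)) v) = v := by
    rw [map_one]
    exact pr_of_mem hv
  have hcount : ∑ c : {g : E (HQ Q) // π g * π x = π x * π g}, pr (RR Q ρ) (ch Q ψ l) (ρ (c : E (HQ Q)) v) =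
      ((Finset.univ.filter fun c : {g : E (HQ Q) // π g * π x = π x * π g} =>
        pr (RR Q ρ) (ch Q ψ l) (ρ (c : E (HQ Q)) v) = v).card : ℂ) • v := by
    rw [Finset.card_filter, Nat.cast_sum, Finset.sum_smul]
    refine Finset.sum_congr rfl fun c _ => ?_
    split_ifs with hcv
    · rw [hcv, Nat.cast_one, one_smul]
    · rw [(hterm c).resolve_left hcv, Nat.cast_zero, zero_smul]
  rw [hcount, smul_eq_zero] at hpr
  rcases hpr with hpr | hpr
  · rw [Nat.cast_eq_zero, Finset.card_eq_zero] at hpr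
    have : (⟨1, by rw [map_one, one_mul, mul_one]⟩ : {g : E (HQ Q) // π g * π x = π x * π g}) ∈
        (Finset.univ.filter fun c : {g : E (HQ Q) // π g * π x = π x * π g} =>
          pr (RR Q ρ) (ch Q ψ l) (ρ (c : E (HQ Q)) v) = v) := by
      rw [Finset.mem_filter]
      exact ⟨Finset.mem_univ _, hone⟩
    rw [hpr] at this
    exact absurd this (Finset.notMem_empty _)
  · exact hvne hpr

end orth

end Cfsg.Agent.H93.CJ
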