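import Cfsg.Agent.H93.CJ.Orth

/-!
# Isometries scaling the first standard singular vector (for S4792)
-/

set_option autoImplicit false

namespace Cfsg.Agent.H93.CJ

open Module QuadraticMap
open Cfsg.Agent.LieClassical.OrthCore Cfsg.Agent.LieClassical.OrthTrans
open Cfsg.Agent.H122.OrthWt

variable {F W : Type*} [Field F] [AddCommGroup W] [Module F W]

/-- An isometry `c` with `c e0 = a e0` is `sg y` times an element of the Levi factor. -/
theorem exists_decomp (Q : QuadraticForm F W) {c : (W × F × F) ≃ₗ[F] (W × F × F)} (hc : c ∈ O (HQ Q)) {a : F}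
    (ha : a ≠ 0) (he : c (e0 F W) = a • e0 F W) :
    ∃ s ∈ O Q, ∃ y : W, (∀ (w : W) (x z : F), c (w, x, z) = sg Q y (s w, a * x, a⁻¹ * z)) ∧
      ∀ w : W, c * sg Q w = sg Q (a • s w) * c := by
  set y : W := a • (c (f0 F W)).1 with hy
  have hpair : polar (HQ Q) (c (e0 F W)) (c (f0 F W)) = 1 := by
    rw [polar_map hc]; exact (hyp0 Q).pair
  have h3 : (c (f0 F W)).2.2 = a⁻¹ := by
    rw [he, polar_smul_left, polar_e0, smul_eq_mul] at hpair
    exact eq_inv_of_mul_eq_one_right hpair
  have hq : HQ Q (c (f0 F W)) = 0 := by rw [mem_O.1 hc]; exact (hyp0 Q).right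
  have h2 : (c (f0 F W)).2.1 = -(a * Q (c (f0 F W)).1) := by
    rw [HQ_apply, h3] at hq
    have : Q (c (f0 F W)).1 * a + (c (f0 F W)).2.1 * (a⁻¹ * a) = 0 := by linear_combination a * hq
    rw [inv_mul_cancel₀ ha, mul_one] at this
    linear_combination this
  set c' : (W × F × F) ≃ₗ[F] (W × F × F) := (sg Q y)⁻¹ * c with hc'
  have hsgO : sg Q y ∈ O (HQ Q) := E_le_O (sg_mem Q y)
  have hc'O : c' ∈ O (HQ Q) := (O (HQ Q)).mul_mem ((O (HQ Q)).inv_mem hsgO) hc
  have hinv : ∀ v w : W × F × F, sg Q y v = w → (sg Q y)⁻¹ w = v := by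
    rintro v w rfl
    exact LinearEquiv.symm_apply_apply (sg Q y) v
  have h1' : c' (e0 F W) = a • e0 F W := by
    show (sg Q y)⁻¹ (c (e0 F W)) = _
    rw [he]
    apply hinv
    rw [sg_apply]
    ext <;> simp
  have h2' : c' (f0 F W) = a⁻¹ • f0 F W := by
    show (sg Q y)⁻¹ (c (f0 F W)) = _
    apply hinv
    rw [sg_apply]
    ext
    · simp [hy, smul_smul, ha]
    · simp only [Prod.smul_fst, Prod.smul_snd, smul_zero, polar_zero_right, smul_eq_mul, mul_one, mul_zero]
      rw [h2, hy, QuadraticMap.map_smul, smul_eq_mul]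
      field_simp
      ring
    · simp [h3]
  obtain ⟨s, hs, hsw⟩ := exists_restrict Q hc'O ha h1' h2'
  refine ⟨s, hs, y, ?_, ?_⟩
  · intro w x z
    have h4 : ((w, x, z) : W × F × F) = em F w + x • e0 F W + z • f0 F W := by
      ext <;> simp
    have h5 : c' (w, x, z) = (s w, a * x, a⁻¹ * z) := by
      rw [h4, map_add, map_add, map_smul, map_smul, hsw, h1', h2']
      ext
      · simp
      · simp [mul_comm]
      · simp [mul_comm]
    rw [← h5]
    exact (LinearEquiv.apply_symm_apply (sg Q y) _).symm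
  · intro w
    have h6 := scale_conj Q hc'O h1' hsw w
    have h7 : c = sg Q y * c' := by rw [hc', ← mul_assoc, mul_inv_cancel, one_mul]
    calc c * sg Q w = sg Q y * (c' * sg Q w) := by rw [← mul_assoc, ← h7]
      _ = (sg Q y * sg Q (a • s w)) * c' := by rw [h6, mul_assoc]
      _ = (sg Q (a • s w) * sg Q y) * c' := by rw [← sg_add, ← sg_add, add_comm]
      _ = sg Q (a • s w) * c := by rw [mul_assoc, ← h7]

end Cfsg.Agent.H93.CJ
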